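import Mathlib
import Cfsg.Agent.H579.SLStab
import Cfsg.Agent.ClassicalGeometry.AutPSL.SylowU
import Cfsg.Agent.Classification.NGroupExclude

/-!
# Solvable subgroups of `SL_3(q)` containing a Sylow `p`-subgroup fix a flag (`q ≥ 4`)
-/

set_option autoImplicit false

namespace Cfsg.Agent.H178.NFPsl3

open Matrix
open Cfsg.Agent.ClassicalGeometry.AutPSL.Root
open Cfsg.Agent.ClassicalGeometry.AutPSL.Auto
open Cfsg.Agent.ClassicalGeometry.AutPSL.SylowU

section Basic

variable {F : Type*} [Field F]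

/-- A vector pairing to one with a nonzero vector. -/
theorem exists_pair_one {n : ℕ} {a : Fin n → F} (ha : a ≠ 0) : ∃ y : Fin n → F, y ⬝ᵥ a = 1 := by
  obtain ⟨i, hi⟩ := Function.ne_iff.1 ha
  refine ⟨Pi.single i (a i)⁻¹, ?_⟩
  rw [single_dotProduct]
  exact inv_mul_cancel₀ hi

theorem dot3 (x y : Fin 3 → F) : x ⬝ᵥ y = x 0 * y 0 + x 1 * y 1 + x 2 * y 2 := by
  simp [dotProduct, Fin.sum_univ_three]

/-- Standard position of a flag. -/
theorem exists_std {a φ : Fin 3 → F} (ha : a ≠ 0) (hφ : φ ≠ 0) (h : φ ⬝ᵥ a = 0) :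
    ∃ P : Matrix.SpecialLinearGroup (Fin 3) F, (P : Matrix (Fin 3) (Fin 3) F) *ᵥ ![1, 0, 0] = a ∧
      φ ᵥ* (P : Matrix (Fin 3) (Fin 3) F) = ![0, 0, 1] := by
  obtain ⟨y, hy⟩ := exists_pair_one ha
  obtain ⟨u, hu⟩ := exists_pair_one hφ
  rw [dot3] at h hy hu
  refine ⟨⟨!![a 0, φ 1 * y 2 - φ 2 * y 1, u 0; a 1, φ 2 * y 0 - φ 0 * y 2, u 1;
    a 2, φ 0 * y 1 - φ 1 * y 0, u 2], ?_⟩, ?_, ?_⟩
  · rw [det_fin_three]
    simp only [Matrix.of_apply, Matrix.cons_val', Matrix.cons_val_zero, Matrix.cons_val_one, Matrix.cons_val,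
      Matrix.cons_val_fin_one]
    linear_combination (y 0 * a 0 + y 1 * a 1 + y 2 * a 2) * hu + hy - (y 0 * u 0 + y 1 * u 1 + y 2 * u 2) * h
  · ext i
    fin_cases i <;> simp [mulVec, dotProduct, Fin.sum_univ_three]
  · ext i
    fin_cases i
    · simp [vecMul, dotProduct, Fin.sum_univ_three]
      linear_combination h
    · simp [vecMul, dotProduct, Fin.sum_univ_three]
      ring
    · simp [vecMul, dotProduct, Fin.sum_univ_three]
      linear_combination hu

/-- Standard position of two independent vectors. -/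
theorem exists_cols {a b : Fin 3 → F} (ha : a ≠ 0) (hab : ∀ c : F, b ≠ c • a) :
    ∃ P : Matrix.SpecialLinearGroup (Fin 3) F, (P : Matrix (Fin 3) (Fin 3) F) *ᵥ ![1, 0, 0] = a ∧
      (P : Matrix (Fin 3) (Fin 3) F) *ᵥ ![0, 1, 0] = b := by
  have hc : (![a 1 * b 2 - a 2 * b 1, a 2 * b 0 - a 0 * b 2, a 0 * b 1 - a 1 * b 0] : Fin 3 → F) ≠ 0 := by
    intro h
    have h0 := congrFun h 0
    have h1 := congrFun h 1
    have h2 := congrFun h 2
    simp only [Matrix.cons_val_zero, Matrix.cons_val_one, Matrix.cons_val, Pi.zero_apply] at h0 h1 h2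
    obtain ⟨y, hy⟩ := exists_pair_one ha
    rw [dot3] at hy
    apply hab (y 0 * b 0 + y 1 * b 1 + y 2 * b 2)
    ext i
    rw [Pi.smul_apply, smul_eq_mul]
    fin_cases i
    · simp only [Fin.zero_eta, Fin.isValue]
      linear_combination (-b 0) * hy - y 1 * h2 + y 2 * h1
    · simp only [Fin.mk_one, Fin.isValue]
      linear_combination (-b 1) * hy + y 0 * h2 - y 2 * h0
    · simp only [Fin.reduceFinMk, Fin.isValue]
      linear_combination (-b 2) * hy - y 0 * h1 + y 1 * h0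
  obtain ⟨u, hu⟩ := exists_pair_one hc
  rw [dot3] at hu
  simp only [Matrix.cons_val_zero, Matrix.cons_val_one, Matrix.cons_val] at hu
  refine ⟨⟨!![a 0, b 0, u 0; a 1, b 1, u 1; a 2, b 2, u 2], ?_⟩, ?_, ?_⟩
  · rw [det_fin_three]
    simp only [Matrix.of_apply, Matrix.cons_val', Matrix.cons_val_zero, Matrix.cons_val_one, Matrix.cons_val,
      Matrix.cons_val_fin_one]
    linear_combination hu
  · ext i
    fin_cases i <;> simp [mulVec, dotProduct, Fin.sum_univ_three]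
  · ext i
    fin_cases i <;> simp [mulVec, dotProduct, Fin.sum_univ_three]

/-- Conjugates of transvections. -/
theorem conj_tr {n : ℕ} (g : Matrix.SpecialLinearGroup (Fin n) F) (a φ : Fin n → F) (h : φ ⬝ᵥ a = 0) :
    g * tr a φ h * g⁻¹ = tr ((g : Matrix (Fin n) (Fin n) F) *ᵥ a)
      (φ ᵥ* ((g⁻¹ : Matrix.SpecialLinearGroup (Fin n) F) : Matrix (Fin n) (Fin n) F)) (by
        rw [← dotProduct_mulVec, mulVec_mulVec, ← Matrix.SpecialLinearGroup.coe_mul, inv_mul_cancel,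
          Matrix.SpecialLinearGroup.coe_one, one_mulVec, h]) := by
  apply Subtype.ext
  rw [Matrix.SpecialLinearGroup.coe_mul, Matrix.SpecialLinearGroup.coe_mul, coe_tr, coe_tr, mul_add, mul_one, add_mul,
    ← Matrix.SpecialLinearGroup.coe_mul, mul_inv_cancel, Matrix.SpecialLinearGroup.coe_one, mul_vecMulVec,
    vecMulVec_mul]

/-- All transvections with center `a` are in `K`. -/
def TC {n : ℕ} (K : Subgroup (Matrix.SpecialLinearGroup (Fin n) F)) (a : Fin n → F) : Prop :=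
  ∀ (φ : Fin n → F) (h : φ ⬝ᵥ a = 0), tr a φ h ∈ K

theorem TC.smul {n : ℕ} {K : Subgroup (Matrix.SpecialLinearGroup (Fin n) F)} {a : Fin n → F} (h : TC K a) (c : F) :
    TC K (c • a) := by
  intro φ hφ
  have h1 : (c • φ) ⬝ᵥ a = 0 := by rw [smul_dotProduct, ← dotProduct_smul, hφ]
  have h2 : tr (c • a) φ hφ = tr a (c • φ) h1 := by
    rw [tr_eq_iff, smul_vecMulVec, vecMulVec_smul]
  rw [h2]
  exact h _ _

theorem TC.conj {n : ℕ} {K : Subgroup (Matrix.SpecialLinearGroup (Fin n) F)} {a : Fin n → F} (h : TC K a)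
    {g : Matrix.SpecialLinearGroup (Fin n) F} (hg : g ∈ K) : TC K ((g : Matrix (Fin n) (Fin n) F) *ᵥ a) := by
  intro φ hφ
  have h1 : (φ ᵥ* (g : Matrix (Fin n) (Fin n) F)) ⬝ᵥ a = 0 := by rw [← dotProduct_mulVec, hφ]
  have h2 := conj_tr g a _ h1
  have h3 : φ ᵥ* (g : Matrix (Fin n) (Fin n) F) ᵥ*
      ((g⁻¹ : Matrix.SpecialLinearGroup (Fin n) F) : Matrix (Fin n) (Fin n) F) = φ := by
    rw [vecMul_vecMul, ← Matrix.SpecialLinearGroup.coe_mul, mul_inv_cancel, Matrix.SpecialLinearGroup.coe_one,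
      vecMul_one]
  have h4 : tr ((g : Matrix (Fin n) (Fin n) F) *ᵥ a) φ hφ = g * tr a _ h1 * g⁻¹ := by
    rw [h2, tr_eq_iff, h3]
  rw [h4]
  exact K.mul_mem (K.mul_mem hg (h _ _)) (K.inv_mem hg)

end Basic

section Finite

variable {F : Type*} [Field F] [Fintype F]

open Cfsg.Agent.Classification.NGroupExclude

/-- **The centers of the transvection groups in a solvable subgroup.** -/
theorem center_unique {K : Subgroup (Matrix.SpecialLinearGroup (Fin 3) F)} (hK : Group.IsSolvable K)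
    (h4 : 4 ≤ Fintype.card F) {a b : Fin 3 → F} (ha : a ≠ 0) (hT : TC K a) (hTb : TC K b) :
    ∃ c : F, b = c • a := by
  by_contra hcon
  push Not at hcon
  obtain ⟨P, hPa, hPb⟩ := exists_cols ha hcon
  let ρ : Matrix.SpecialLinearGroup (Fin 2) F →* Matrix.SpecialLinearGroup (Fin 3) F :=
    (MulAut.conj P).toMonoidHom.comp blkSL
  have hρ : ∀ A, ρ A = P * blkSL A * P⁻¹ := fun A => rfl
  have hinj : Function.Injective ρ := fun A B h => blkSL_injective ((MulAut.conj P).injective h)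
  have hmem : ∀ A, ρ A ∈ K := by
    intro A
    refine Cfsg.Agent.LieClassical.SLGen.transvection_induction (fun A => ρ A ∈ K) (fun i j hij c => ?_)
      (fun A B hA hB => by rw [map_mul]; exact K.mul_mem hA hB) A
    have key : ∀ (x y : Fin 3 → F) (hxy : y ⬝ᵥ x = 0),
        ((blkSL (Matrix.SpecialLinearGroup.transvection hij c) : Matrix.SpecialLinearGroup (Fin 3) F) :
          Matrix (Fin 3) (Fin 3) F) = 1 + vecMulVec (c • x) y → TC K ((P : Matrix (Fin 3) (Fin 3) F) *ᵥ x) →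
        ρ (Matrix.SpecialLinearGroup.transvection hij c) ∈ K := by
      intro x y hxy hb hTC
      have h1 : (blkSL (Matrix.SpecialLinearGroup.transvection hij c) : Matrix.SpecialLinearGroup (Fin 3) F) =
          tr (c • x) y (by rw [dotProduct_smul, hxy, smul_zero]) := Subtype.ext hb
      rw [hρ, h1, conj_tr]
      have h2 := hTC.smul c
      rw [← mulVec_smul] at h2
      exact h2 _ _
    have htv : ((Matrix.SpecialLinearGroup.transvection hij c : Matrix.SpecialLinearGroup (Fin 2) F) :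
        Matrix (Fin 2) (Fin 2) F) = 1 + single i j c := rfl
    fin_cases i <;> fin_cases j
    · exact absurd rfl hij
    · refine key ![1, 0, 0] ![0, 1, 0] (by simp) ?_ (by rw [hPa]; exact hT)
      rw [coe_blkSL, htv]
      ext r s
      fin_cases r <;> fin_cases s <;> simp [blk]
    · refine key ![0, 1, 0] ![1, 0, 0] (by simp) ?_ (by rw [hPb]; exact hTb)
      rw [coe_blkSL, htv]
      ext r s
      fin_cases r <;> fin_cases s <;> simp [blk]
    · exact absurd rfl hij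
  refine not_isSolvable_sl F h4 ?_
  exact Group.isSolvable_of_isSolvable_injective (f := ρ.codRestrict K hmem)
    (fun A B h => hinj (congrArg Subtype.val h))

theorem fix_center {K : Subgroup (Matrix.SpecialLinearGroup (Fin 3) F)} (hK : Group.IsSolvable K)
    (h4 : 4 ≤ Fintype.card F) {a : Fin 3 → F} (ha : a ≠ 0) (hT : TC K a) {g : Matrix.SpecialLinearGroup (Fin 3) F}
    (hg : g ∈ K) : ∃ c : F, (g : Matrix (Fin 3) (Fin 3) F) *ᵥ a = c • a :=
  center_unique hK h4 ha hT (hT.conj hg)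

/-- **Solvable subgroups of index prime to `p` fix a flag.** -/
theorem exists_flag (p : ℕ) [Fact p.Prime] [CharP F p] (h4 : 4 ≤ Fintype.card F)
    {K : Subgroup (Matrix.SpecialLinearGroup (Fin 3) F)} (hK : Group.IsSolvable K) (hi : ¬ p ∣ K.index) :
    ∃ a φ : Fin 3 → F, a ≠ 0 ∧ φ ≠ 0 ∧ φ ⬝ᵥ a = 0 ∧
      ∀ g ∈ K, (∃ c : F, (g : Matrix (Fin 3) (Fin 3) F) *ᵥ a = c • a) ∧
        ∃ c : F, φ ᵥ* (g : Matrix (Fin 3) (Fin 3) F) = c • φ := by
  obtain ⟨a, ha, hTa⟩ := Cfsg.Agent.H579.SLStab.exists_center p (n := 3) (by norm_num) hi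
  let K' : Subgroup (Matrix.SpecialLinearGroup (Fin 3) F) :=
    K.map (itr : MulAut (Matrix.SpecialLinearGroup (Fin 3) F)).toMonoidHom
  have hK' : Group.IsSolvable K' :=
    Group.isSolvable_of_surjective (f := (itr : MulAut (Matrix.SpecialLinearGroup (Fin 3) F)).toMonoidHom.subgroupMap K)
      (MonoidHom.subgroupMap_surjective _ K)
  have hi' : ¬ p ∣ K'.index := by
    have h1 : K'.index = K.index := by
      have h2 := Subgroup.card_mul_index K'
      have h3 := Subgroup.card_mul_index K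
      have h4 : Nat.card K' = Nat.card K := Subgroup.card_map_of_injective (MulEquiv.injective _)
      rw [h4] at h2
      exact Nat.eq_of_mul_eq_mul_left Nat.card_pos (h2.trans h3.symm)
    rwa [h1]
  obtain ⟨φ, hφ, hTφ⟩ := Cfsg.Agent.H579.SLStab.exists_center p (n := 3) (by norm_num) hi'
  have hrow : ∀ g ∈ K, ∃ c : F, φ ᵥ* (g : Matrix (Fin 3) (Fin 3) F) = c • φ := by
    intro g hg
    obtain ⟨c, hc⟩ := fix_center hK' h4 hφ hTφ (g := itr g⁻¹) ⟨g⁻¹, K.inv_mem hg, rfl⟩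
    rw [coe_itr, inv_inv, mulVec_transpose] at hc
    exact ⟨c, hc⟩
  refine ⟨a, φ, ha, hφ, ?_, fun g hg => ⟨fix_center hK h4 ha hTa hg, hrow g hg⟩⟩
  by_contra hs
  -- every form vanishing on `a` is zero
  have hall : ∀ ψ : Fin 3 → F, ψ ⬝ᵥ a = 0 → ψ = 0 := by
    intro ψ hψ
    obtain ⟨c, hc⟩ := hrow _ (hTa ψ hψ)
    rw [coe_tr, vecMul_add, vecMul_one, vecMul_vecMulVec] at hc
    have h1 := congrArg (fun v => v ⬝ᵥ a) hc
    simp only [add_dotProduct, smul_dotProduct, hψ, smul_eq_mul, mul_zero, add_zero] at h1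
    have h2 : c = 1 := by
      have h3 : (1 : F) * (φ ⬝ᵥ a) = c * (φ ⬝ᵥ a) := by rw [one_mul]; exact h1
      exact (mul_right_cancel₀ hs h3).symm
    rw [h2, one_smul] at hc
    have h3 : (φ ⬝ᵥ a) • ψ = 0 := by
      have := add_left_cancel (a := φ) (b := (φ ⬝ᵥ a) • ψ) (c := 0) (by rw [add_zero]; exact hc)
      exact this
    exact (smul_eq_zero.1 h3).resolve_left hs
  have h1 := hall ![a 1, - a 0, 0] (by rw [dot3]; simp; ring)
  have h2 := hall ![0, a 2, - a 1] (by rw [dot3]; simp; ring)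
  apply ha
  ext i
  fin_cases i
  · have := congrFun h1 1
    simpa using this
  · have := congrFun h1 0
    simpa using this
  · have := congrFun h2 1
    simpa using this

/-- The stabilizer of a flag. -/
def flagStab (a φ : Fin 3 → F) : Subgroup (Matrix.SpecialLinearGroup (Fin 3) F) :=
  let M : Submonoid (Matrix.SpecialLinearGroup (Fin 3) F) :=
    { carrier := {g | (∃ c : F, (g : Matrix (Fin 3) (Fin 3) F) *ᵥ a = c • a) ∧
        ∃ c : F, φ ᵥ* (g : Matrix (Fin 3) (Fin 3) F) = c • φ}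
      one_mem' := ⟨⟨1, by simp⟩, ⟨1, by simp⟩⟩
      mul_mem' := by
        rintro g h ⟨⟨c, hc⟩, ⟨d, hd⟩⟩ ⟨⟨c', hc'⟩, ⟨d', hd'⟩⟩
        refine ⟨⟨c' * c, ?_⟩, ⟨d * d', ?_⟩⟩
        · rw [Matrix.SpecialLinearGroup.coe_mul, ← mulVec_mulVec, hc', mulVec_smul, hc, smul_smul]
        · rw [Matrix.SpecialLinearGroup.coe_mul, ← vecMul_vecMul, hd, smul_vecMul, hd', smul_smul] }
  { M with
    inv_mem' := by
      intro g hg
      have h1 : g⁻¹ = g ^ (orderOf g - 1) := by
        rw [inv_eq_iff_mul_eq_one, ← pow_succ', Nat.sub_add_cancel (orderOf_pos g), pow_orderOf_eq_one]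
      change g⁻¹ ∈ M
      rw [h1]
      exact Submonoid.pow_mem _ hg _ }

theorem mem_flagStab {a φ : Fin 3 → F} {g : Matrix.SpecialLinearGroup (Fin 3) F} :
    g ∈ flagStab a φ ↔ (∃ c : F, (g : Matrix (Fin 3) (Fin 3) F) *ᵥ a = c • a) ∧
      ∃ c : F, φ ᵥ* (g : Matrix (Fin 3) (Fin 3) F) = c • φ := Iff.rfl

/-- Conjugates of flag stabilizers. -/
theorem conj_mem_flagStab {a φ a' φ' : Fin 3 → F} {P g : Matrix.SpecialLinearGroup (Fin 3) F}
    (h1 : (P : Matrix (Fin 3) (Fin 3) F) *ᵥ a = a') (h2 : φ' ᵥ* (P : Matrix (Fin 3) (Fin 3) F) = φ)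
    (hg : g ∈ flagStab a φ) : P * g * P⁻¹ ∈ flagStab a' φ' := by
  obtain ⟨⟨c, hc⟩, ⟨d, hd⟩⟩ := mem_flagStab.1 hg
  have h3 : ((P⁻¹ : Matrix.SpecialLinearGroup (Fin 3) F) : Matrix (Fin 3) (Fin 3) F) *ᵥ a' = a := by
    rw [← h1, mulVec_mulVec, ← Matrix.SpecialLinearGroup.coe_mul, inv_mul_cancel, Matrix.SpecialLinearGroup.coe_one,
      one_mulVec]
  have h4 : φ ᵥ* ((P⁻¹ : Matrix.SpecialLinearGroup (Fin 3) F) : Matrix (Fin 3) (Fin 3) F) = φ' := by
    rw [← h2, vecMul_vecMul, ← Matrix.SpecialLinearGroup.coe_mul, mul_inv_cancel, Matrix.SpecialLinearGroup.coe_one,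
      vecMul_one]
  refine mem_flagStab.2 ⟨⟨c, ?_⟩, ⟨d, ?_⟩⟩
  · rw [Matrix.SpecialLinearGroup.coe_mul, Matrix.SpecialLinearGroup.coe_mul, ← mulVec_mulVec, h3, ← mulVec_mulVec,
      hc, mulVec_smul, h1]
  · rw [Matrix.SpecialLinearGroup.coe_mul, Matrix.SpecialLinearGroup.coe_mul, ← vecMul_vecMul, ← vecMul_vecMul, h2,
      hd, smul_vecMul, h4]

/-- The standard Borel subgroup is upper triangular. -/
theorem entries_of_mem {g : Matrix.SpecialLinearGroup (Fin 3) F} (hg : g ∈ flagStab (F := F) ![1, 0, 0] ![0, 0, 1]) :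
    (g : Matrix (Fin 3) (Fin 3) F) 1 0 = 0 ∧ (g : Matrix (Fin 3) (Fin 3) F) 2 0 = 0 ∧
      (g : Matrix (Fin 3) (Fin 3) F) 2 1 = 0 := by
  obtain ⟨⟨c, hc⟩, ⟨d, hd⟩⟩ := mem_flagStab.1 hg
  refine ⟨?_, ?_, ?_⟩
  · have := congrFun hc 1
    simpa [mulVec, dotProduct, Fin.sum_univ_three] using this
  · have := congrFun hc 2
    simpa [mulVec, dotProduct, Fin.sum_univ_three] using this
  · have := congrFun hd 1
    simpa [vecMul, dotProduct, Fin.sum_univ_three] using this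

theorem mem_std_iff {g : Matrix.SpecialLinearGroup (Fin 3) F} : g ∈ flagStab (F := F) ![1, 0, 0] ![0, 0, 1] ↔
    (g : Matrix (Fin 3) (Fin 3) F) 1 0 = 0 ∧ (g : Matrix (Fin 3) (Fin 3) F) 2 0 = 0 ∧
      (g : Matrix (Fin 3) (Fin 3) F) 2 1 = 0 := by
  refine ⟨entries_of_mem, ?_⟩
  rintro ⟨h1, h2, h3⟩
  refine mem_flagStab.2 ⟨⟨(g : Matrix (Fin 3) (Fin 3) F) 0 0, ?_⟩, ⟨(g : Matrix (Fin 3) (Fin 3) F) 2 2, ?_⟩⟩
  · ext i
    fin_cases i <;> simp [mulVec, dotProduct, Fin.sum_univ_three, h1, h2]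
  · ext i
    fin_cases i <;> simp [vecMul, dotProduct, Fin.sum_univ_three, h2, h3]

/-- **Solvable flag stabilizers are self-normalizing.** -/
theorem mem_flagStab_of_normalizes (h4 : 4 ≤ Fintype.card F) {a φ : Fin 3 → F} (ha : a ≠ 0) (hφ : φ ≠ 0)
    (h : φ ⬝ᵥ a = 0) (hsol : Group.IsSolvable (flagStab a φ)) {s : Matrix.SpecialLinearGroup (Fin 3) F}
    (hs : ∀ g ∈ flagStab a φ, s * g * s⁻¹ ∈ flagStab a φ) : s ∈ flagStab a φ := by
  have hTa : TC (flagStab a φ) a := by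
    intro ψ hψ
    refine mem_flagStab.2 ⟨⟨1, ?_⟩, ⟨1, ?_⟩⟩
    · rw [tr_mulVec, hψ, zero_smul, add_zero, one_smul]
    · rw [coe_tr, vecMul_add, vecMul_one, vecMul_vecMulVec, h, zero_smul, add_zero, one_smul]
  have hTsa : TC (flagStab a φ) ((s : Matrix (Fin 3) (Fin 3) F) *ᵥ a) := by
    intro ψ hψ
    have h1 : (ψ ᵥ* (s : Matrix (Fin 3) (Fin 3) F)) ⬝ᵥ a = 0 := by rw [← dotProduct_mulVec, hψ]
    have h2 := conj_tr s a _ h1
    have h3 : ψ ᵥ* (s : Matrix (Fin 3) (Fin 3) F) ᵥ*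
        ((s⁻¹ : Matrix.SpecialLinearGroup (Fin 3) F) : Matrix (Fin 3) (Fin 3) F) = ψ := by
      rw [vecMul_vecMul, ← Matrix.SpecialLinearGroup.coe_mul, mul_inv_cancel, Matrix.SpecialLinearGroup.coe_one,
        vecMul_one]
    have h4 : tr ((s : Matrix (Fin 3) (Fin 3) F) *ᵥ a) ψ hψ = s * tr a _ h1 * s⁻¹ := by
      rw [h2, tr_eq_iff, h3]
    rw [h4]
    exact hs _ (hTa _ h1)
  obtain ⟨c, hc⟩ := center_unique hsol h4 ha hTa hTsa
  -- the dual statement
  let K' : Subgroup (Matrix.SpecialLinearGroup (Fin 3) F) :=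
    (flagStab a φ).map (itr : MulAut (Matrix.SpecialLinearGroup (Fin 3) F)).toMonoidHom
  have hK' : Group.IsSolvable K' :=
    Group.isSolvable_of_surjective
      (f := (itr : MulAut (Matrix.SpecialLinearGroup (Fin 3) F)).toMonoidHom.subgroupMap (flagStab a φ))
      (MonoidHom.subgroupMap_surjective _ (flagStab a φ))
  have hT' : TC K' φ := by
    intro ψ hψ
    have h0 : φ ⬝ᵥ ψ = 0 := by rw [dotProduct_comm]; exact hψ
    refine ⟨(tr ψ φ h0)⁻¹, Subgroup.inv_mem _ (mem_flagStab.2 ⟨⟨1, ?_⟩, ⟨1, ?_⟩⟩), ?_⟩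
    · rw [tr_mulVec, h, zero_smul, add_zero, one_smul]
    · rw [coe_tr, vecMul_add, vecMul_one, vecMul_vecMulVec, h0, zero_smul, add_zero, one_smul]
    · apply Subtype.ext
      change (itr (tr ψ φ h0)⁻¹ : Matrix (Fin 3) (Fin 3) F) = _
      rw [coe_itr, inv_inv, coe_tr, coe_tr, transpose_add, transpose_one, transpose_vecMulVec]
  have hTs' : TC K' ((itr s⁻¹ : Matrix (Fin 3) (Fin 3) F) *ᵥ φ) := by
    intro ψ hψ
    have h1 : (ψ ᵥ* (itr s⁻¹ : Matrix (Fin 3) (Fin 3) F)) ⬝ᵥ φ = 0 := by rw [← dotProduct_mulVec, hψ]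
    have h2 := conj_tr (itr s⁻¹) φ _ h1
    have h3 : ψ ᵥ* (itr s⁻¹ : Matrix (Fin 3) (Fin 3) F) ᵥ*
        (((itr s⁻¹)⁻¹ : Matrix.SpecialLinearGroup (Fin 3) F) : Matrix (Fin 3) (Fin 3) F) = ψ := by
      rw [vecMul_vecMul, ← Matrix.SpecialLinearGroup.coe_mul, mul_inv_cancel, Matrix.SpecialLinearGroup.coe_one,
        vecMul_one]
    have h4 : tr ((itr s⁻¹ : Matrix (Fin 3) (Fin 3) F) *ᵥ φ) ψ hψ = itr s⁻¹ * tr φ _ h1 * (itr s⁻¹)⁻¹ := by
      rw [h2, tr_eq_iff, h3]
    rw [h4]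
    obtain ⟨g, hg, hg'⟩ := hT' _ h1
    -- `s⁻¹` also normalizes
    have hsinv : s⁻¹ * g * s⁻¹⁻¹ ∈ flagStab a φ := by
      have hinj : Function.Injective (fun x : flagStab a φ => (⟨s * x * s⁻¹, hs x x.2⟩ : flagStab a φ)) := by
        intro x y hxy
        have h5 := congrArg Subtype.val hxy
        apply Subtype.ext
        exact mul_left_cancel (mul_right_cancel h5)
      obtain ⟨y, hy⟩ := Finite.surjective_of_injective hinj ⟨g, hg⟩
      have h5 : s * y * s⁻¹ = g := congrArg Subtype.val hy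
      have h6 : s⁻¹ * g * s⁻¹⁻¹ = y := by rw [← h5]; group
      rw [h6]
      exact y.2
    refine ⟨_, hsinv, ?_⟩
    change itr (s⁻¹ * g * s⁻¹⁻¹) = _
    rw [map_mul, map_mul, map_inv itr s⁻¹]
    congr 2
  obtain ⟨d, hd⟩ := center_unique hK' h4 hφ hT' hTs'
  rw [coe_itr, inv_inv, mulVec_transpose] at hd
  exact mem_flagStab.2 ⟨⟨c, hc⟩, ⟨d, hd⟩⟩

/-- The order of the standard Borel subgroup. -/
theorem card_std_dvd : Nat.card (flagStab (F := F) ![1, 0, 0] ![0, 0, 1]) ∣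
    (Fintype.card F - 1) ^ 2 * Fintype.card F ^ 3 := by
  classical
  let B := flagStab (F := F) ![1, 0, 0] ![0, 0, 1]
  let χ0 : B →* F :=
    { toFun := fun g => (g : Matrix.SpecialLinearGroup (Fin 3) F).1 0 0
      map_one' := by simp
      map_mul' := fun g h => by
        obtain ⟨h1, h2, h3⟩ := mem_std_iff.1 h.2
        change (((g : Matrix.SpecialLinearGroup (Fin 3) F) * (h : Matrix.SpecialLinearGroup (Fin 3) F) :
          Matrix.SpecialLinearGroup (Fin 3) F) : Matrix (Fin 3) (Fin 3) F) 0 0 = _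
        rw [Matrix.SpecialLinearGroup.coe_mul, mul_apply, Fin.sum_univ_three, h1, h2]
        ring }
  let χ2 : B →* F :=
    { toFun := fun g => (g : Matrix.SpecialLinearGroup (Fin 3) F).1 2 2
      map_one' := by simp
      map_mul' := fun g h => by
        obtain ⟨h1, h2, h3⟩ := mem_std_iff.1 g.2
        change (((g : Matrix.SpecialLinearGroup (Fin 3) F) * (h : Matrix.SpecialLinearGroup (Fin 3) F) :
          Matrix.SpecialLinearGroup (Fin 3) F) : Matrix (Fin 3) (Fin 3) F) 2 2 = _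
        rw [Matrix.SpecialLinearGroup.coe_mul, mul_apply, Fin.sum_univ_three, h2, h3]
        ring }
  let χ : B →* Fˣ × Fˣ := χ0.toHomUnits.prod χ2.toHomUnits
  have hker : Nat.card χ.ker ∣ Fintype.card F ^ 3 := by
    have h1 : Nat.card (upper 3 F) = Fintype.card F ^ 3 := card_upper 3
    rw [← h1]
    have hle : (χ.ker.map B.subtype) ≤ upper 3 F := by
      rintro _ ⟨g, hg, rfl⟩
      have hg' := MonoidHom.mem_ker.1 hg
      have h00 : (g : Matrix.SpecialLinearGroup (Fin 3) F).1 0 0 = 1 := by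
        have h2 := congrArg (fun x : Fˣ × Fˣ => (x.1 : F)) hg'
        exact h2
      have h22 : (g : Matrix.SpecialLinearGroup (Fin 3) F).1 2 2 = 1 := by
        have h2 := congrArg (fun x : Fˣ × Fˣ => (x.2 : F)) hg'
        exact h2
      obtain ⟨h10, h20, h21⟩ := mem_std_iff.1 g.2
      have h11 : (g : Matrix.SpecialLinearGroup (Fin 3) F).1 1 1 = 1 := by
        have hdet := (g : Matrix.SpecialLinearGroup (Fin 3) F).2
        rw [det_fin_three] at hdet
        have h10' : (g : Matrix.SpecialLinearGroup (Fin 3) F).1 1 0 = 0 := h10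
        have h20' : (g : Matrix.SpecialLinearGroup (Fin 3) F).1 2 0 = 0 := h20
        have h21' : (g : Matrix.SpecialLinearGroup (Fin 3) F).1 2 1 = 0 := h21
        rw [h10', h20', h21', h00, h22] at hdet
        linear_combination hdet
      rw [mem_upper]
      intro i j hij
      fin_cases i <;> fin_cases j <;> first | exact h00 | exact h11 | exact h22 | exact h10 | exact h20 | exact h21 |
        exact absurd hij (by decide)
    have h2 := Subgroup.card_dvd_of_le hle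
    rwa [Subgroup.card_map_of_injective B.subtype_injective] at h2
  have hrange : Nat.card χ.range ∣ (Fintype.card F - 1) ^ 2 := by
    have h1 : Nat.card (Fˣ × Fˣ) = (Fintype.card F - 1) ^ 2 := by
      rw [Nat.card_prod, Nat.card_eq_fintype_card, Fintype.card_units, pow_two]
    rw [← h1]
    exact Subgroup.card_subgroup_dvd_card _
  have h1 : Nat.card B = Nat.card χ.range * Nat.card χ.ker := by
    rw [← Subgroup.index_ker, mul_comm]
    exact (Subgroup.card_mul_index χ.ker).symm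
  change Nat.card B ∣ _
  rw [h1]
  exact mul_dvd_mul hrange hker

/-- The order of a flag stabilizer. -/
theorem card_flagStab_dvd {a φ : Fin 3 → F} (ha : a ≠ 0) (hφ : φ ≠ 0) (h : φ ⬝ᵥ a = 0) :
    Nat.card (flagStab a φ) ∣ (Fintype.card F - 1) ^ 2 * Fintype.card F ^ 3 := by
  obtain ⟨P, hP1, hP2⟩ := exists_std ha hφ h
  refine dvd_trans ?_ (card_std_dvd (F := F))
  have hle : (flagStab a φ).map (MulAut.conj P⁻¹).toMonoidHom ≤ flagStab (F := F) ![1, 0, 0] ![0, 0, 1] := by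
    rintro _ ⟨g, hg, rfl⟩
    have h1 : ((P⁻¹ : Matrix.SpecialLinearGroup (Fin 3) F) : Matrix (Fin 3) (Fin 3) F) *ᵥ a = ![1, 0, 0] := by
      rw [← hP1, mulVec_mulVec, ← Matrix.SpecialLinearGroup.coe_mul, inv_mul_cancel,
        Matrix.SpecialLinearGroup.coe_one, one_mulVec]
    have h2 : ![0, 0, 1] ᵥ* ((P⁻¹ : Matrix.SpecialLinearGroup (Fin 3) F) : Matrix (Fin 3) (Fin 3) F) = φ := by
      rw [← hP2, vecMul_vecMul, ← Matrix.SpecialLinearGroup.coe_mul, mul_inv_cancel,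
        Matrix.SpecialLinearGroup.coe_one, vecMul_one]
    exact conj_mem_flagStab h1 h2 hg
  have h2 := Subgroup.card_dvd_of_le hle
  rwa [Subgroup.card_map_of_injective (MulEquiv.injective _)] at h2

/-- **The order of solvable subgroups of index prime to `p`.** -/
theorem card_dvd_of_solvable (p : ℕ) [Fact p.Prime] [CharP F p] (h4 : 4 ≤ Fintype.card F)
    {K : Subgroup (Matrix.SpecialLinearGroup (Fin 3) F)} (hK : Group.IsSolvable K) (hi : ¬ p ∣ K.index) :
    Nat.card K ∣ (Fintype.card F - 1) ^ 2 * Fintype.card F ^ 3 := by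
  obtain ⟨a, φ, ha, hφ, h, hall⟩ := exists_flag p h4 hK hi
  have hle : K ≤ flagStab a φ := fun g hg => mem_flagStab.2 (hall g hg)
  exact (Subgroup.card_dvd_of_le hle).trans (card_flagStab_dvd ha hφ h)

end Finite

end Cfsg.Agent.H178.NFPsl3
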