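import Mathlib
import Cfsg.Agent.H176.NFStmt
import Cfsg.Agent.H518.DghpPSL
import Cfsg.Agent.H484.CritClassical
import Cfsg.Agent.S0249
import Cfsg.Agent.S0813

/-!
# `PSL_3(q)` is not the socle of a product of two solvable groups: orders
-/

set_option autoImplicit false

namespace Cfsg.Agent.H178.NFPsl3

open Cfsg.Agent.H176.NF Cfsg.Agent.H518.Dghp Cfsg.Agent.H518.DghpMat Cfsg.Agent.H518.DghpSep

variable {F : Type} [Field F] [Fintype F]

theorem card_SL {q : ℕ} (hF : Fintype.card F = q) :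
    Nat.card (Matrix.SpecialLinearGroup (Fin 3) F) = q ^ 3 * ((q ^ 2 - 1) * (q ^ 3 - 1)) := by
  rw [card_SL_succ (m := 2) hF, Fin.prod_univ_two]
  have h1 : q ^ (2 + 1) - q ^ ((0 : Fin 2) : ℕ) = q ^ 3 - 1 := by simp
  have h2 : q ^ (2 + 1) - q ^ ((1 : Fin 2) : ℕ) = q * (q ^ 2 - 1) := by
    rw [Nat.mul_sub, mul_one]
    simp only [Fin.val_one, pow_one]
    congr 1
    ring
  rw [h1, h2]
  ring

theorem card_PSL {q : ℕ} (hF : Fintype.card F = q) :
    Nat.gcd 3 (q - 1) * Nat.card (Matrix.ProjectiveSpecialLinearGroup (Fin 3) F) =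
      Nat.card (Matrix.SpecialLinearGroup (Fin 3) F) := by
  have h1 := Cfsg.Agent.S0242.result hF 3 (by norm_num)
  have h2 := Cfsg.Agent.S0243.result hF 3 (by norm_num)
  have hq : 1 < q := hF ▸ Fintype.one_lt_card
  rw [← h1, mul_left_comm] at h2
  exact Nat.eq_of_mul_eq_mul_left (by omega) h2

instance isSimple : IsSimpleGroup (Matrix.ProjectiveSpecialLinearGroup (Fin 3) F) :=
  Cfsg.Agent.S0249.result 3 le_rfl

theorem two_le_card_center_index : ¬ (Nat.card (Matrix.ProjectiveSpecialLinearGroup (Fin 3) F)).Prime := by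
  obtain ⟨q, hF⟩ : ∃ q, Fintype.card F = q := ⟨_, rfl⟩
  have hq : 1 < q := hF ▸ Fintype.one_lt_card
  intro h
  have h1 := card_PSL (F := F) hF
  rw [card_SL hF] at h1
  -- the order is `q^3` times something coprime
  have h2 : q ^ 3 ∣ Nat.card (Matrix.ProjectiveSpecialLinearGroup (Fin 3) F) := by
    have h3 : q ^ 3 ∣ Nat.gcd 3 (q - 1) * Nat.card (Matrix.ProjectiveSpecialLinearGroup (Fin 3) F) :=
      h1 ▸ dvd_mul_right _ _
    refine Nat.Coprime.dvd_of_dvd_mul_left ?_ h3
    refine Nat.Coprime.pow_left _ ?_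
    refine Nat.Coprime.coprime_dvd_right (Nat.gcd_dvd_right _ _) ?_
    have := Nat.coprime_self_sub_right (n := q) (m := 1) hq.le
    simpa using this
  have h3 : q ∣ Nat.card (Matrix.ProjectiveSpecialLinearGroup (Fin 3) F) := (dvd_pow_self q (by norm_num)).trans h2
  rcases (Nat.dvd_prime h).1 h3 with h4 | h4
  · omega
  · rw [← h4] at h2
    have := Nat.le_of_dvd (by omega) h2
    nlinarith [Nat.pos_of_ne_zero (show q ≠ 0 by omega), pow_succ q 2, pow_two q]

theorem center_eq_bot : Subgroup.center (Matrix.ProjectiveSpecialLinearGroup (Fin 3) F) = ⊥ := by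
  rcases (inferInstance : (Subgroup.center (Matrix.ProjectiveSpecialLinearGroup (Fin 3) F)).Normal).eq_bot_or_eq_top
    with h1 | h1
  · exact h1
  · exfalso
    apply two_le_card_center_index (F := F)
    have hc : IsMulCommutative (Matrix.ProjectiveSpecialLinearGroup (Fin 3) F) := ⟨⟨fun a b => by
      have h2 : b ∈ Subgroup.center (Matrix.ProjectiveSpecialLinearGroup (Fin 3) F) := by rw [h1]; trivial
      exact Subgroup.mem_center_iff.mp h2 a⟩⟩
    let _ : CommGroup (Matrix.ProjectiveSpecialLinearGroup (Fin 3) F) :=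
      { (inferInstance : Group (Matrix.ProjectiveSpecialLinearGroup (Fin 3) F)) with mul_comm := fun a b => hc.is_comm.comm a b }
    exact IsSimpleGroup.prime_card

theorem conj_injective :
    Function.Injective (MulAut.conj : Matrix.ProjectiveSpecialLinearGroup (Fin 3) F →* _) := by
  rw [← MonoidHom.ker_eq_bot_iff, eq_bot_iff]
  intro x hx
  rw [← center_eq_bot, Subgroup.mem_center_iff]
  intro y
  have h1 : MulAut.conj x y = y := by rw [MonoidHom.mem_ker.1 hx]; rfl
  rw [MulAut.conj_apply, mul_inv_eq_iff_eq_mul] at h1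
  exact h1.symm

theorem outN_eq {p f : ℕ} (hp : p.Prime) (hf : 1 ≤ f) (hF : Fintype.card F = p ^ f) :
    outN (Matrix.ProjectiveSpecialLinearGroup (Fin 3) F) = 2 * f * Nat.gcd 3 (p ^ f - 1) := by
  have := Fact.mk hp
  rw [Cfsg.Agent.H176.NF.outN_eq]
  apply Cfsg.Agent.H484.SylNorm.index_of_card center_eq_bot
  have haut := Cfsg.Agent.S0813.result (F := F) p f hf hF 3 (by norm_num) (fun h => by omega)
  rw [Cfsg.Agent.H484.SylNorm.card_pgl (by norm_num), ← mul_assoc, hF] at haut
  rw [haut, if_neg (by norm_num)]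

end Cfsg.Agent.H178.NFPsl3
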