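import Mathlib
import Cfsg.Agent.H178.NFPsl3.Prime

/-!
# `PSL_3(5)`
-/

set_option autoImplicit false

namespace Cfsg.Agent.H178.NFPsl3

open Matrix
open Cfsg.Agent.H176.NF Cfsg.Agent.H518.Dghp Cfsg.Agent.H518.DghpMat Cfsg.Agent.H518.DghpSep
open Cfsg.Agent.H518.DghpPrim
open Cfsg.Agent.ClassicalGeometry.AutPSL.Root
open Cfsg.Agent.ClassicalGeometry.AutPSL.Auto

variable {F : Type} [Field F] [Fintype F]

theorem five_eq_zero (hF : Fintype.card F = 5) : (5 : F) = 0 := by
  have h := FiniteField.cast_card_eq_zero F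
  rw [hF] at h
  exact_mod_cast h

theorem card_SL_five (hF : Fintype.card F = 5) : Nat.card (Matrix.SpecialLinearGroup (Fin 3) F) = 372000 := by
  rw [card_SL hF]
  norm_num

theorem center_SL_five (hF : Fintype.card F = 5) : Subgroup.center (Matrix.SpecialLinearGroup (Fin 3) F) = ⊥ := by
  rw [Subgroup.eq_bot_iff_forall]
  intro z hz
  obtain ⟨r, hr, hr'⟩ := Matrix.SpecialLinearGroup.mem_center_iff.1 hz
  rw [Fintype.card_fin] at hr
  have h0 : r ≠ 0 := by
    rintro rfl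
    norm_num at hr
  have h4 : r ^ 4 = 1 := by
    have := FiniteField.pow_card_sub_one_eq_one r h0
    rwa [hF] at this
  have h1 : r = 1 := by
    calc r = r ^ 4 := by rw [pow_succ, hr, one_mul]
      _ = 1 := h4
  apply Subtype.ext
  rw [← hr', h1, map_one, Matrix.SpecialLinearGroup.coe_one]

/-- `SL_3(5) = PSL_3(5)`. -/
noncomputable def isoPSL (hF : Fintype.card F = 5) :
    Matrix.SpecialLinearGroup (Fin 3) F ≃* Matrix.ProjectiveSpecialLinearGroup (Fin 3) F :=
  MulEquiv.ofBijective (QuotientGroup.mk' _) ⟨by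
    rw [← MonoidHom.ker_eq_bot_iff, QuotientGroup.ker_mk', center_SL_five hF], QuotientGroup.mk'_surjective _⟩

theorem card_mulAut_congr {A B : Type*} [Group A] [Group B] (e : A ≃* B) : Nat.card (MulAut A) = Nat.card (MulAut B) :=
  Nat.card_congr
    { toFun := fun f => (e.symm.trans f).trans e
      invFun := fun f => (e.trans f).trans e.symm
      left_inv := fun f => by ext x; simp
      right_inv := fun f => by ext x; simp }

theorem index_inn (hF : Fintype.card F = 5) :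
    (MulAut.conj : Matrix.SpecialLinearGroup (Fin 3) F →* _).range.index = 2 := by
  apply Cfsg.Agent.H484.SylNorm.index_of_card (center_SL_five hF)
  have h5 : Fact (Nat.Prime 5) := ⟨by norm_num⟩
  have hF1 : Fintype.card F = 5 ^ 1 := by rw [hF, pow_one]
  rw [card_mulAut_congr (isoPSL hF), Cfsg.Agent.S0813.result (F := F) 5 1 le_rfl hF1 3 (by norm_num) (fun h => by omega),
    Cfsg.Agent.H484.SylNorm.card_pgl (by norm_num), hF, Nat.card_congr (isoPSL hF).toEquiv, if_neg (by norm_num)]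
  norm_num

theorem conj_inj (hF : Fintype.card F = 5) :
    Function.Injective (MulAut.conj : Matrix.SpecialLinearGroup (Fin 3) F →* _) := by
  rw [← MonoidHom.ker_eq_bot_iff, eq_bot_iff]
  intro x hx
  rw [← center_SL_five hF, Subgroup.mem_center_iff]
  intro y
  have h1 : MulAut.conj x y = y := by rw [MonoidHom.mem_ker.1 hx]; rfl
  rw [MulAut.conj_apply, mul_inv_eq_iff_eq_mul] at h1
  exact h1.symm

/-- Inverse transpose is not inner. -/
theorem itr_not_inner (hF : Fintype.card F = 5) :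
    (itr : MulAut (Matrix.SpecialLinearGroup (Fin 3) F)) ∉
      (MulAut.conj : Matrix.SpecialLinearGroup (Fin 3) F →* _).range := by
  rintro ⟨B, hB⟩
  have h5 := five_eq_zero hF
  let A : Matrix.SpecialLinearGroup (Fin 3) F := ⟨Matrix.diagonal ![2, 2, 4], by
    rw [Matrix.det_diagonal, Fin.prod_univ_three]
    simp only [Matrix.cons_val_zero, Matrix.cons_val_one, Matrix.cons_val]
    linear_combination 3 * h5⟩
  let A' : Matrix.SpecialLinearGroup (Fin 3) F := ⟨Matrix.diagonal ![3, 3, 4], by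
    rw [Matrix.det_diagonal, Fin.prod_univ_three]
    simp only [Matrix.cons_val_zero, Matrix.cons_val_one, Matrix.cons_val]
    linear_combination 7 * h5⟩
  have hA : A⁻¹ = A' := by
    rw [inv_eq_iff_mul_eq_one]
    apply Subtype.ext
    rw [Matrix.SpecialLinearGroup.coe_mul, Matrix.SpecialLinearGroup.coe_one]
    change Matrix.diagonal ![2, 2, 4] * Matrix.diagonal ![3, 3, 4] = 1
    rw [Matrix.diagonal_mul_diagonal, ← Matrix.diagonal_one]
    congr 1
    funext i
    fin_cases i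
    · simp only [Fin.zero_eta, Matrix.cons_val_zero]
      linear_combination h5
    · simp only [Fin.mk_one, Matrix.cons_val_one, Matrix.cons_val_zero]
      linear_combination h5
    · simp only [Fin.reduceFinMk, Matrix.cons_val]
      linear_combination 3 * h5
  have h1 : itr A = B * A * B⁻¹ := by
    have := congrArg (fun f : MulAut (Matrix.SpecialLinearGroup (Fin 3) F) => f A) hB
    exact this.symm
  have h2 := congrArg (fun X : Matrix.SpecialLinearGroup (Fin 3) F => (X : Matrix (Fin 3) (Fin 3) F).trace) h1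
  rw [coe_itr, hA, Matrix.trace_transpose, Matrix.SpecialLinearGroup.coe_mul, Matrix.trace_mul_comm,
    ← Matrix.SpecialLinearGroup.coe_mul, inv_mul_cancel_left] at h2
  change (Matrix.diagonal ![3, 3, 4] : Matrix (Fin 3) (Fin 3) F).trace =
    (Matrix.diagonal ![2, 2, 4] : Matrix (Fin 3) (Fin 3) F).trace at h2
  rw [Matrix.trace_diagonal, Matrix.trace_diagonal, Fin.sum_univ_three, Fin.sum_univ_three] at h2
  simp only [Matrix.cons_val_zero, Matrix.cons_val_one, Matrix.cons_val] at h2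
  have h3 : (1 : F) = 0 := by linear_combination 3 * h2 - h5
  exact one_ne_zero h3

/-- Isotropic vectors. -/
theorem exists_isotropic (Q : Matrix (Fin 3) (Fin 3) F) : ∃ v : Fin 3 → F, v ≠ 0 ∧ (Q *ᵥ v) ⬝ᵥ v = 0 := by
  classical
  obtain ⟨p, hp⟩ := CharP.exists F
  let f : MvPolynomial (Fin 3) F :=
    ∑ i, ∑ j, MvPolynomial.C (Q i j) * (MvPolynomial.X j * MvPolynomial.X i)
  have hdeg : f.totalDegree < Fintype.card (Fin 3) := by
    rw [Fintype.card_fin]
    refine lt_of_le_of_lt (MvPolynomial.totalDegree_finsetSum_le (d := 2) fun i _ =>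
      MvPolynomial.totalDegree_finsetSum_le fun j _ => ?_) (by norm_num)
    refine (MvPolynomial.totalDegree_mul _ _).trans ?_
    rw [MvPolynomial.totalDegree_C, zero_add]
    refine (MvPolynomial.totalDegree_mul _ _).trans ?_
    rw [MvPolynomial.totalDegree_X, MvPolynomial.totalDegree_X]
  have heval : ∀ v : Fin 3 → F, MvPolynomial.eval v f = (Q *ᵥ v) ⬝ᵥ v := by
    intro v
    simp only [f, map_sum, map_mul, MvPolynomial.eval_C, MvPolynomial.eval_X, dotProduct, mulVec, Finset.sum_mul,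
      mul_assoc]
  have hdvd := char_dvd_card_solutions p hdeg
  by_contra hcon
  push Not at hcon
  have h1 : Fintype.card {x : Fin 3 → F // MvPolynomial.eval x f = 0} = 1 := by
    rw [Fintype.card_eq_one_iff]
    refine ⟨⟨0, by rw [heval]; simp⟩, ?_⟩
    rintro ⟨x, hx⟩
    apply Subtype.ext
    by_contra hx0
    exact hcon x hx0 (by rw [← heval]; exact hx)
  rw [h1] at hdvd
  have h2 : p = 1 := Nat.dvd_one.1 hdvd
  exact CharP.char_ne_one F p h2

/-- Outer involutions fix a flag. -/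
theorem exists_flag_of_outer (hF : Fintype.card F = 5) {t : MulAut (Matrix.SpecialLinearGroup (Fin 3) F)}
    (ht : t * t = 1) (hto : t ∉ (MulAut.conj : Matrix.SpecialLinearGroup (Fin 3) F →* _).range) :
    ∃ a φ : Fin 3 → F, a ≠ 0 ∧ φ ≠ 0 ∧ φ ⬝ᵥ a = 0 ∧ ∀ A ∈ flagStab a φ, t A ∈ flagStab a φ := by
  obtain ⟨B, hB⟩ : t * itr⁻¹ ∈ (MulAut.conj : Matrix.SpecialLinearGroup (Fin 3) F →* _).range := by
    rw [Subgroup.mul_mem_iff_of_index_two (index_inn hF)]
    refine ⟨fun h => absurd h hto, fun h => absurd (inv_mem_iff.1 h) (itr_not_inner hF)⟩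
  have ht' : t = MulAut.conj B * itr := by rw [hB, inv_mul_cancel_right]
  have happ : ∀ A, t A = B * itr A * B⁻¹ := fun A => by rw [ht']; rfl
  have hBB : B * itr B = 1 := by
    have h1 : MulAut.conj (B * itr B) = 1 := by
      rw [← ht]
      ext1 A
      have h2 : itr (itr A) = A := itr.symm_apply_apply A
      rw [MulAut.mul_apply, happ, happ, map_mul itr, map_mul itr, map_inv itr, h2, MulAut.conj_apply]
      group
    exact conj_inj hF (by rw [h1, map_one])
  -- `B` is symmetric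
  have hsym : (B : Matrix (Fin 3) (Fin 3) F)ᵀ = (B : Matrix (Fin 3) (Fin 3) F) := by
    have h1 : itr B⁻¹ = B := by
      rw [map_inv]
      exact (eq_inv_of_mul_eq_one_left hBB).symm
    have h2 := congrArg (fun X : Matrix.SpecialLinearGroup (Fin 3) F => (X : Matrix (Fin 3) (Fin 3) F)) h1
    rw [coe_itr, inv_inv] at h2
    exact h2
  set Q : Matrix (Fin 3) (Fin 3) F := ((B⁻¹ : Matrix.SpecialLinearGroup (Fin 3) F) : Matrix (Fin 3) (Fin 3) F) with hQ
  have hBQ : (B : Matrix (Fin 3) (Fin 3) F) * Q = 1 := by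
    rw [hQ, ← Matrix.SpecialLinearGroup.coe_mul, mul_inv_cancel, Matrix.SpecialLinearGroup.coe_one]
  have hQB : Q * (B : Matrix (Fin 3) (Fin 3) F) = 1 := by
    rw [hQ, ← Matrix.SpecialLinearGroup.coe_mul, inv_mul_cancel, Matrix.SpecialLinearGroup.coe_one]
  have hQsym : Qᵀ = Q := by
    have h1 : Qᵀ * (B : Matrix (Fin 3) (Fin 3) F) = 1 := by
      rw [← hsym, ← transpose_mul, hBQ, transpose_one]
    calc Qᵀ = Qᵀ * ((B : Matrix (Fin 3) (Fin 3) F) * Q) := by rw [hBQ, mul_one]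
      _ = Q := by rw [← mul_assoc, h1, one_mul]
  obtain ⟨v, hv0, hv⟩ := exists_isotropic Q
  have hQv : Q *ᵥ v ≠ 0 := by
    intro h
    apply hv0
    rw [← one_mulVec v, ← hBQ, ← mulVec_mulVec, h, mulVec_zero]
  refine ⟨v, Q *ᵥ v, hv0, hQv, hv, fun A hA => ?_⟩
  obtain ⟨⟨c, hc⟩, ⟨d, hd⟩⟩ := mem_flagStab.1 ((flagStab v (Q *ᵥ v)).inv_mem hA)
  have hBQv : (B : Matrix (Fin 3) (Fin 3) F) *ᵥ (Q *ᵥ v) = v := by rw [mulVec_mulVec, hBQ, one_mulVec]
  rw [happ]
  refine mem_flagStab.2 ⟨⟨d, ?_⟩, ⟨c, ?_⟩⟩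
  · rw [Matrix.SpecialLinearGroup.coe_mul, Matrix.SpecialLinearGroup.coe_mul, ← mulVec_mulVec, ← mulVec_mulVec,
      coe_itr, ← hQ, mulVec_transpose, hd, mulVec_smul, hBQv]
  · have h1 : (Q *ᵥ v) ᵥ* (B : Matrix (Fin 3) (Fin 3) F) = v := by
      rw [← mulVec_transpose, hsym, hBQv]
    rw [Matrix.SpecialLinearGroup.coe_mul, Matrix.SpecialLinearGroup.coe_mul, ← vecMul_vecMul, ← vecMul_vecMul,
      coe_itr, ← hQ, h1, vecMul_transpose, hc, smul_vecMul, ← mulVec_transpose, hQsym]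

/-- Flags are conjugate. -/
theorem exists_move {a φ a' φ' : Fin 3 → F} (ha : a ≠ 0) (hφ : φ ≠ 0) (h : φ ⬝ᵥ a = 0) (ha' : a' ≠ 0) (hφ' : φ' ≠ 0)
    (h' : φ' ⬝ᵥ a' = 0) : ∃ P : Matrix.SpecialLinearGroup (Fin 3) F,
      (∀ A ∈ flagStab a' φ', P * A * P⁻¹ ∈ flagStab a φ) ∧ ∀ A ∈ flagStab a φ, P⁻¹ * A * P ∈ flagStab a' φ' := by
  obtain ⟨P₁, h1, h2⟩ := exists_std ha' hφ' h'
  obtain ⟨P₂, h3, h4⟩ := exists_std ha hφ h
  have e1 : ∀ (P : Matrix.SpecialLinearGroup (Fin 3) F) (x y : Fin 3 → F), (P : Matrix (Fin 3) (Fin 3) F) *ᵥ x = y →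
      ((P⁻¹ : Matrix.SpecialLinearGroup (Fin 3) F) : Matrix (Fin 3) (Fin 3) F) *ᵥ y = x := by
    rintro P x y rfl
    rw [mulVec_mulVec, ← Matrix.SpecialLinearGroup.coe_mul, inv_mul_cancel, Matrix.SpecialLinearGroup.coe_one,
      one_mulVec]
  have e2 : ∀ (P : Matrix.SpecialLinearGroup (Fin 3) F) (x y : Fin 3 → F), x ᵥ* (P : Matrix (Fin 3) (Fin 3) F) = y →
      y ᵥ* ((P⁻¹ : Matrix.SpecialLinearGroup (Fin 3) F) : Matrix (Fin 3) (Fin 3) F) = x := by
    rintro P x y rfl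
    rw [vecMul_vecMul, ← Matrix.SpecialLinearGroup.coe_mul, mul_inv_cancel, Matrix.SpecialLinearGroup.coe_one,
      vecMul_one]
  have h5 : ((P₂ * P₁⁻¹ : Matrix.SpecialLinearGroup (Fin 3) F) : Matrix (Fin 3) (Fin 3) F) *ᵥ a' = a := by
    rw [Matrix.SpecialLinearGroup.coe_mul, ← mulVec_mulVec, e1 _ _ _ h1, h3]
  have h6 : φ ᵥ* ((P₂ * P₁⁻¹ : Matrix.SpecialLinearGroup (Fin 3) F) : Matrix (Fin 3) (Fin 3) F) = φ' := by
    rw [Matrix.SpecialLinearGroup.coe_mul, ← vecMul_vecMul, h4, e2 _ _ _ h2]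
  refine ⟨P₂ * P₁⁻¹, fun A hA => conj_mem_flagStab h5 h6 hA, fun A hA => ?_⟩
  have := conj_mem_flagStab (P := (P₂ * P₁⁻¹)⁻¹) (e1 _ _ _ h5) (e2 _ _ _ h6) hA
  rwa [inv_inv] at this

theorem ord_31 : orderOf ((5 : ℕ) : ZMod 31) = 3 := by
  have : Fact (Nat.Prime 3) := ⟨by norm_num⟩
  exact orderOf_eq_prime (by decide) (by decide)

/-- Solvable subgroups of order divisible by `31`. -/
theorem dvd_93 (hF : Fintype.card F = 5) {H : Subgroup (Matrix.SpecialLinearGroup (Fin 3) F)}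
    (hH : Group.IsSolvable H) (h31 : 31 ∣ Nat.card H) : Nat.card H ∣ 93 := by
  have hF1 : Fintype.card F = 5 ^ 1 := by rw [hF, pow_one]
  have hor1 : orderOf ((5 ^ 1 : ℕ) : ZMod 31) = 3 := by rw [pow_one, ord_31]
  have h5 : ¬ 5 ∣ Nat.card H := fun h =>
    sep_rp (by norm_num) le_rfl le_rfl hF1 (by norm_num) hor1 H hH h31 h
  have h2 : ¬ 2 ∣ Nat.card H := fun h =>
    sep_r2 (by norm_num) le_rfl hF1 (by norm_num) hor1 H hH h31 h
  have h1 : Nat.card H ∣ 372000 := card_SL_five hF ▸ Subgroup.card_subgroup_dvd_card H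
  have h3 : (372000 : ℕ) = 2 ^ 5 * (5 ^ 3 * 93) := by norm_num
  rw [h3] at h1
  have c2 : Nat.Coprime (Nat.card H) (2 ^ 5) :=
    Nat.Coprime.pow_right _ ((Nat.Prime.coprime_iff_not_dvd Nat.prime_two).2 h2).symm
  have c5 : Nat.Coprime (Nat.card H) (5 ^ 3) :=
    Nat.Coprime.pow_right _ ((Nat.Prime.coprime_iff_not_dvd (by norm_num)).2 h5).symm
  exact c5.dvd_of_dvd_mul_left (c2.dvd_of_dvd_mul_left h1)

/-- The main argument for `SL_3(5)`. -/
theorem false_of (hF : Fintype.card F = 5) {G H K : Subgroup (MulAut (Matrix.SpecialLinearGroup (Fin 3) F))}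
    (hG : (MulAut.conj : Matrix.SpecialLinearGroup (Fin 3) F →* _).range ≤ G) (hHG : H ≤ G) (hKG : K ≤ G)
    (hHK : ∀ g ∈ G, ∃ h ∈ H, ∃ k ∈ K, g = h * k) (hHs : Group.IsSolvable H) (hKs : Group.IsSolvable K)
    (h31 : 31 ∣ Nat.card (H.comap (MulAut.conj : Matrix.SpecialLinearGroup (Fin 3) F →* _))) : False := by
  classical
  have hinj := conj_inj hF
  have hfin : Finite (MulAut (Matrix.SpecialLinearGroup (Fin 3) F)) := inferInstance
  have hH0s := isSolvable_comap _ hinj hHs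
  have hK0s := isSolvable_comap _ hinj hKs
  set H₀ := H.comap (MulAut.conj : Matrix.SpecialLinearGroup (Fin 3) F →* _) with hH0
  set K₀ := K.comap (MulAut.conj : Matrix.SpecialLinearGroup (Fin 3) F →* _) with hK0
  have e0 := card_factor hHG hKG hHK
  have eH := card_comap_mul hinj H
  have eK := card_comap_mul hinj K
  have eG := card_comap_mul hinj G
  have hGtop : G.comap (MulAut.conj : Matrix.SpecialLinearGroup (Fin 3) F →* _) = ⊤ :=
    top_le_iff.1 fun t _ => hG ⟨t, rfl⟩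
  rw [hGtop, Subgroup.card_top, card_SL_five hF] at eG
  rw [← hH0] at eH
  rw [← hK0] at eK
  have dH := relIndex_dvd (T := Matrix.SpecialLinearGroup (Fin 3) F) hHG
  have dK := relIndex_dvd (T := Matrix.SpecialLinearGroup (Fin 3) F) hKG
  have dG : (MulAut.conj : Matrix.SpecialLinearGroup (Fin 3) F →* _).range.relIndex G ∣ 2 := by
    rw [← index_inn hF, ← Subgroup.relIndex_top_right]
    exact relIndex_dvd le_top
  set iH := (MulAut.conj : Matrix.SpecialLinearGroup (Fin 3) F →* _).range.relIndex H with hiH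
  set iK := (MulAut.conj : Matrix.SpecialLinearGroup (Fin 3) F →* _).range.relIndex K with hiK
  set iG := (MulAut.conj : Matrix.SpecialLinearGroup (Fin 3) F →* _).range.relIndex G with hiG
  have hHd := dvd_93 hF hH0s h31
  have hle93 := Nat.le_of_dvd (by norm_num) hHd
  have hc : 0 < Nat.card ↥(H ⊓ K) := Nat.card_pos
  rw [← eH, ← eK, ← eG] at e0
  -- the index of `K₀` is prime to `5`
  have hcardK := Subgroup.card_mul_index K₀
  rw [card_SL_five hF] at hcardK
  have h125 : 125 ∣ Nat.card K₀ := by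
    have h1 : 125 ∣ Nat.card H₀ * iH * (Nat.card K₀ * iK) := by
      rw [e0]
      exact Dvd.dvd.mul_right (Dvd.dvd.mul_right (by norm_num) _) _
    have c1 : Nat.Coprime 125 (Nat.card H₀) := Nat.Coprime.coprime_dvd_right hHd (by norm_num)
    have c2 : Nat.Coprime 125 iH := Nat.Coprime.coprime_dvd_right (dH.trans dG) (by norm_num)
    have c3 : Nat.Coprime 125 iK := Nat.Coprime.coprime_dvd_right (dK.trans dG) (by norm_num)
    exact c3.dvd_of_dvd_mul_right ((c1.mul_right c2).dvd_of_dvd_mul_left h1)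
  have hidx : ¬ 5 ∣ K₀.index := by
    intro h
    have h1 : 125 * 5 ∣ Nat.card K₀ * K₀.index := mul_dvd_mul h125 h
    rw [hcardK] at h1
    norm_num at h1
  have : Fact (Nat.Prime 5) := ⟨by norm_num⟩
  have : CharP F 5 := charP_of_card_eq_prime_pow (f := 1) (by rw [hF, pow_one])
  obtain ⟨a, φ, ha, hφ, hφa, hall⟩ := exists_flag 5 (by rw [hF]; norm_num) hK0s hidx
  have hKle : K₀ ≤ flagStab a φ := fun g hg => mem_flagStab.2 (hall g hg)
  have hBd := card_flagStab_dvd ha hφ hφa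
  rw [hF] at hBd
  have hB2000 : Nat.card (flagStab a φ) ≤ 2000 := Nat.le_of_dvd (by norm_num) (hBd.trans (by norm_num))
  have hK2000 : Nat.card K₀ ≤ Nat.card (flagStab a φ) := Subgroup.card_le_of_le hKle
  -- the numerical equality
  have hiG2 : iG ≤ 2 := Nat.le_of_dvd (by norm_num) dG
  have hiG0 : 0 < iG := Nat.pos_of_dvd_of_pos dG (by norm_num)
  have hiHG : iH ≤ iG := Nat.le_of_dvd hiG0 dH
  have hiKG : iK ≤ iG := Nat.le_of_dvd hiG0 dK
  have hmain : 2 * (iG * Nat.card ↥(H ⊓ K)) ≤ iH * iK := by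
    have h1 : Nat.card H₀ * Nat.card K₀ ≤ 93 * 2000 := Nat.mul_le_mul hle93 (hK2000.trans hB2000)
    have h2 : Nat.card H₀ * iH * (Nat.card K₀ * iK) = Nat.card H₀ * Nat.card K₀ * (iH * iK) := by ring
    rw [h2] at e0
    have h3 : Nat.card H₀ * Nat.card K₀ * (iH * iK) ≤ 93 * 2000 * (iH * iK) := Nat.mul_le_mul_right _ h1
    have h4 : 372000 * iG * Nat.card ↥(H ⊓ K) = 372000 * (iG * Nat.card ↥(H ⊓ K)) := by ring
    rw [e0, h4] at h3
    omega
  have hiG' : iG = 2 := by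
    by_contra hne
    have h1 : iG = 1 := by omega
    have h2 : iH ≤ 1 := h1 ▸ hiHG
    have h3 : iK ≤ 1 := h1 ▸ hiKG
    have h4 := Nat.mul_le_mul h2 h3
    rw [h1, one_mul] at hmain
    omega
  have h4 : iH * iK ≤ 2 * 2 := Nat.mul_le_mul (hiHG.trans hiG2) (hiKG.trans hiG2)
  rw [hiG'] at hmain
  have hc1 : Nat.card ↥(H ⊓ K) = 1 := by omega
  have hiH2 : iH = 2 := by
    by_contra hne
    have h5 : iH ≤ 1 := by omega
    have h6 := Nat.mul_le_mul h5 (hiKG.trans hiG2)
    omega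
  have hiK2 : iK = 2 := by
    by_contra hne
    have h5 : iK ≤ 1 := by omega
    have h6 := Nat.mul_le_mul (hiHG.trans hiG2) h5
    omega
  rw [hc1, hiG', hiH2, hiK2] at e0
  have hHodd : ¬ 2 ∣ Nat.card H₀ := fun h => by
    have := h.trans hHd
    norm_num at this
  have hK2000' : Nat.card K₀ = 2000 := by
    have h5 := hK2000.trans hB2000
    by_contra hne
    have h6 : Nat.card K₀ ≤ 1999 := by omega
    have h7 : Nat.card H₀ * 2 * (Nat.card K₀ * 2) ≤ 93 * 2 * (1999 * 2) :=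
      Nat.mul_le_mul (Nat.mul_le_mul_right _ hle93) (Nat.mul_le_mul_right _ h6)
    omega
  have hKeq : K₀ = flagStab a φ := Subgroup.eq_of_le_of_card_ge hKle (by rw [hK2000']; exact hB2000)
  -- an involution in `H`
  have h2H : 2 ∣ Nat.card H := by
    rw [← eH, hiH2]
    exact dvd_mul_left _ _
  have : Fact (Nat.Prime 2) := ⟨by norm_num⟩
  obtain ⟨t', ht'⟩ := exists_prime_orderOf_dvd_card' 2 h2H
  obtain ⟨t, htH, ht⟩ : ∃ t ∈ H, orderOf t = 2 := ⟨t', t'.2, by rw [Subgroup.orderOf_coe, ht']⟩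
  have htt : t * t = 1 := by rw [← pow_two, ← ht, pow_orderOf_eq_one]
  have ht1 : t ≠ 1 := by
    rintro rfl
    rw [orderOf_one] at ht
    norm_num at ht
  have hto : t ∉ (MulAut.conj : Matrix.SpecialLinearGroup (Fin 3) F →* _).range := by
    rintro ⟨s, rfl⟩
    apply hHodd
    have h5 : orderOf s = 2 := by rw [← ht]; exact (orderOf_injective _ hinj s).symm
    rw [← h5]
    exact Subgroup.orderOf_dvd_natCard H₀ (Subgroup.mem_comap.2 htH)
  obtain ⟨a', φ', ha', hφ', hφa', hst⟩ := exists_flag_of_outer hF htt hto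
  obtain ⟨P, hP1, hP2⟩ := exists_move ha hφ hφa ha' hφ' hφa'
  have hsK : ∀ A ∈ flagStab a φ, (MulAut.conj P * t * (MulAut.conj P)⁻¹) A ∈ flagStab a φ := by
    intro A hA
    have h5 : (MulAut.conj P * t * (MulAut.conj P)⁻¹) A = P * t (P⁻¹ * A * P) * P⁻¹ := by
      rw [MulAut.mul_apply, MulAut.mul_apply, MulAut.conj_inv_apply, MulAut.conj_apply]
    rw [h5]
    exact hP1 _ (hst _ (hP2 A hA))
  -- an outer element of `K`
  obtain ⟨k, hkK, hk⟩ : ∃ k ∈ K, k ∉ (MulAut.conj : Matrix.SpecialLinearGroup (Fin 3) F →* _).range := by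
    by_contra hcon
    push Not at hcon
    have h5 : iK = 1 := Subgroup.relIndex_eq_one.2 hcon
    omega
  have hkst : ∀ A ∈ flagStab a φ, k⁻¹ A ∈ flagStab a φ := by
    intro A hA
    rw [← hKeq] at hA ⊢
    have h5 : MulAut.conj (k⁻¹ A) = k⁻¹ * MulAut.conj A * k := by
      ext1 x
      rw [MulAut.mul_apply, MulAut.mul_apply, MulAut.conj_apply, MulAut.conj_apply, map_mul, map_mul, map_inv]
      have h6 : k⁻¹ (k x) = x := MulEquiv.symm_apply_apply k x
      rw [h6]
    have h6 : MulAut.conj (k⁻¹ A) ∈ K := by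
      rw [h5]
      exact K.mul_mem (K.mul_mem (K.inv_mem hkK) hA) hkK
    exact h6
  have htK : MulAut.conj P * t * (MulAut.conj P)⁻¹ ∈ K := by
    have hto' : MulAut.conj P * t * (MulAut.conj P)⁻¹ ∉ (MulAut.conj : Matrix.SpecialLinearGroup (Fin 3) F →* _).range := by
      intro h
      apply hto
      have h5 := (range_conj_normal (T := Matrix.SpecialLinearGroup (Fin 3) F)).conj_mem _ h (MulAut.conj P)⁻¹
      have h6 : (MulAut.conj P)⁻¹ * (MulAut.conj P * t * (MulAut.conj P)⁻¹) * (MulAut.conj P)⁻¹⁻¹ = t := by group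
      rwa [h6] at h5
    obtain ⟨s, hs⟩ : MulAut.conj P * t * (MulAut.conj P)⁻¹ * k⁻¹ ∈
        (MulAut.conj : Matrix.SpecialLinearGroup (Fin 3) F →* _).range := by
      rw [Subgroup.mul_mem_iff_of_index_two (index_inn hF)]
      exact ⟨fun h => absurd h hto', fun h => absurd (inv_mem_iff.1 h) hk⟩
    have hsS : s ∈ flagStab a φ := by
      refine mem_flagStab_of_normalizes (by rw [hF]; norm_num) ha hφ hφa (hKeq ▸ hK0s) ?_
      intro A hA
      have h5 : s * A * s⁻¹ = (MulAut.conj P * t * (MulAut.conj P)⁻¹) (k⁻¹ A) := by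
        rw [← MulAut.mul_apply, ← hs, MulAut.conj_apply]
      rw [h5]
      exact hsK _ (hkst _ hA)
    rw [← hKeq] at hsS
    have h5 : MulAut.conj P * t * (MulAut.conj P)⁻¹ = MulAut.conj s * k := by rw [hs, inv_mul_cancel_right]
    rw [h5]
    exact K.mul_mem hsS hkK
  -- conjugation
  obtain ⟨h, hh, k', hk', he⟩ := hHK (MulAut.conj P)⁻¹ (G.inv_mem (hG ⟨P, rfl⟩))
  have h5 : h⁻¹ * t * h ∈ K := by
    have h6 : MulAut.conj P = k'⁻¹ * h⁻¹ := by rw [← _root_.mul_inv_rev, ← he, inv_inv]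
    have h7 : h⁻¹ * t * h = k' * (MulAut.conj P * t * (MulAut.conj P)⁻¹) * k'⁻¹ := by
      rw [h6]
      group
    rw [h7]
    exact K.mul_mem (K.mul_mem hk' htK) (K.inv_mem hk')
  have h6 : h⁻¹ * t * h ∈ H ⊓ K := ⟨H.mul_mem (H.mul_mem (H.inv_mem hh) htH) hh, h5⟩
  rw [Subgroup.card_eq_one.1 hc1, Subgroup.mem_bot] at h6
  apply ht1
  calc t = h * (h⁻¹ * t * h) * h⁻¹ := by group
    _ = 1 := by rw [h6, mul_one, mul_inv_cancel]

/-- **`SL_3(5)`.** -/
theorem nf_five (hF : Fintype.card F = 5) : NF (Matrix.SpecialLinearGroup (Fin 3) F) := by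
  intro G H K hG hHG hKG hHK hHs hKs
  have hinj := conj_inj hF
  by_cases h31 : 31 ∣ Nat.card (H.comap (MulAut.conj : Matrix.SpecialLinearGroup (Fin 3) F →* _))
  · exact false_of hF hG hHG hKG hHK hHs hKs h31
  · have e0 := card_factor hHG hKG hHK
    have eH := card_comap_mul hinj H
    have eK := card_comap_mul hinj K
    have eG := card_comap_mul hinj G
    have hGtop : G.comap (MulAut.conj : Matrix.SpecialLinearGroup (Fin 3) F →* _) = ⊤ :=
      top_le_iff.1 fun t _ => hG ⟨t, rfl⟩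
    rw [hGtop, Subgroup.card_top, card_SL_five hF] at eG
    have dH := relIndex_dvd (T := Matrix.SpecialLinearGroup (Fin 3) F) (le_top : H ≤ ⊤)
    have dK := relIndex_dvd (T := Matrix.SpecialLinearGroup (Fin 3) F) (le_top : K ≤ ⊤)
    rw [Subgroup.relIndex_top_right, index_inn hF] at dH dK
    refine false_of hF hG hKG hHG ?_ hKs hHs ?_
    · intro g hg
      obtain ⟨h, hh, k, hk, he⟩ := hHK g⁻¹ (G.inv_mem hg)
      exact ⟨k⁻¹, K.inv_mem hk, h⁻¹, H.inv_mem hh, by rw [← _root_.mul_inv_rev, ← he, inv_inv]⟩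
    · have h1 : 31 ∣ Nat.card (H.comap (MulAut.conj : Matrix.SpecialLinearGroup (Fin 3) F →* _)) *
          (MulAut.conj : Matrix.SpecialLinearGroup (Fin 3) F →* _).range.relIndex H *
          (Nat.card (K.comap (MulAut.conj : Matrix.SpecialLinearGroup (Fin 3) F →* _)) *
          (MulAut.conj : Matrix.SpecialLinearGroup (Fin 3) F →* _).range.relIndex K) := by
        rw [eH, eK, e0, ← eG]
        exact Dvd.dvd.mul_right (Dvd.dvd.mul_right (by norm_num) _) _
      have p31 : Nat.Prime 31 := by norm_num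
      rcases (Nat.Prime.dvd_mul p31).1 h1 with h2 | h2
      · rcases (Nat.Prime.dvd_mul p31).1 h2 with h3 | h3
        · exact absurd h3 h31
        · exact absurd (h3.trans dH) (by norm_num)
      · rcases (Nat.Prime.dvd_mul p31).1 h2 with h3 | h3
        · exact h3
        · exact absurd (h3.trans dK) (by norm_num)

end Cfsg.Agent.H178.NFPsl3
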